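import Cfsg.Agent.LThreeMB.CEight
import Cfsg.Agent.LThreeCo1.Ranks

/-!
# Elements `t * s` of `Co1`, `s` of class `3D` (helper518, cluster ORE)

* `card_le` : `s` of order three with `fr s = 2 ^ 8` (`C(s) = 3 × A₉`), `t ≠ 1` a 2-element commuting with `s`:
  `|C(t * s)| ≤ 2880`.
-/

set_option autoImplicit false

namespace Cfsg.Agent.H518.Ore.CoOneD

open Cfsg Subgroup Cfsg.Spor
open Cfsg.Agent.LThreeMB (fr)
open Cfsg.Agent.LThreeCo1T8.Main (xx AA order_x)

/-- the centralizer of an even involution of degree nine -/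
theorem card_perm {τ : Equiv.Perm (Fin 9)} (h : orderOf τ = 2) (hs : Equiv.Perm.sign τ = 1) :
    Nat.card (centralizer ({τ} : Set (Equiv.Perm (Fin 9)))) ≤ 960 := by
  have hp : (orderOf τ).Prime := by rw [h]; exact Nat.prime_two
  obtain ⟨n, hn⟩ := Equiv.Perm.cycleType_prime_order hp
  rw [h] at hn
  have h1 := Equiv.Perm.sum_cycleType_le τ
  rw [hn, Multiset.sum_replicate, Fintype.card_fin, smul_eq_mul] at h1
  have h2 := Equiv.Perm.sign_of_cycleType τ
  rw [hs, hn, Multiset.sum_replicate, Multiset.card_replicate, smul_eq_mul] at h2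
  have h3 : n < 4 := by omega
  rw [Equiv.Perm.nat_card_centralizer, hn, Multiset.sum_replicate, Multiset.prod_replicate, Fintype.card_fin]
  interval_cases n
  · exact absurd h2 (by decide)
  · decide
  · exact absurd h2 (by decide)
  · decide

theorem card_alt {τ : alternatingGroup (Fin 9)} (h : orderOf τ = 2) :
    Nat.card (centralizer ({τ} : Set (alternatingGroup (Fin 9)))) ≤ 960 := by
  refine le_trans ?_ (card_perm (τ := (τ : Equiv.Perm (Fin 9))) ?_ (Equiv.Perm.mem_alternatingGroup.1 τ.2))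
  · let f : centralizer ({τ} : Set (alternatingGroup (Fin 9))) →
        centralizer ({(τ : Equiv.Perm (Fin 9))} : Set (Equiv.Perm (Fin 9))) := fun g =>
      ⟨(g : alternatingGroup (Fin 9)), by
        rw [mem_centralizer_singleton_iff]
        exact congrArg Subtype.val (mem_centralizer_singleton_iff.1 g.2)⟩
    refine Nat.card_le_card_of_injective f fun a b hab => ?_
    have h1 : ((a : alternatingGroup (Fin 9)) : Equiv.Perm (Fin 9)) = ((b : alternatingGroup (Fin 9)) : Equiv.Perm (Fin 9)) :=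
      congrArg (fun y : centralizer ({(τ : Equiv.Perm (Fin 9))} : Set (Equiv.Perm (Fin 9))) => (y : Equiv.Perm (Fin 9))) hab
    exact Subtype.ext (Subtype.ext h1)
  · rw [Subgroup.orderOf_coe, h]

/-- the representative `xx` -/
theorem card_xx {t : Spor.Co1} {k : ℕ} (ht : t ^ 2 ^ k = 1) (h1 : t ≠ 1) (hc : Commute t xx) :
    Nat.card (centralizer ({t * xx} : Set Spor.Co1)) ≤ 2880 := by
  have hfin : Finite Spor.Co1 := LThreeCo1T8.Main.finCo1
  -- the involution
  obtain ⟨m, hm⟩ : ∃ m, orderOf t = 2 ^ (m + 1) := by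
    obtain ⟨j, -, hj⟩ := (Nat.dvd_prime_pow Nat.prime_two).1 (orderOf_dvd_of_pow_eq_one ht)
    rcases j with _ | j
    · rw [pow_zero, orderOf_eq_one_iff] at hj; exact absurd hj h1
    · exact ⟨j, hj⟩
  set v : Spor.Co1 := t ^ 2 ^ m with hv
  have hv2 : orderOf v = 2 := by
    rw [hv, orderOf_pow_of_dvd (pow_ne_zero _ two_ne_zero) (by rw [hm]; exact pow_dvd_pow 2 (Nat.le_succ m)), hm,
      pow_succ, Nat.mul_div_cancel_left _ (by positivity)]
  have hvx : Commute v xx := hc.pow_left _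
  -- decomposition in `C(xx) = AA × ⟨xx⟩`
  have hdec : ∀ g : Spor.Co1, Commute g xx → ∃ a ∈ AA, ∃ b ∈ zpowers xx, g = a * b := by
    intro g hg
    have h2 : g ∈ AA ⊔ zpowers xx := by
      rw [LThreeCo1T8.Main.sup_eq, mem_centralizer_singleton_iff]; exact hg
    let f := MonoidHom.noncommCoprod AA.subtype (zpowers xx).subtype (by
      intro a b
      obtain ⟨i, hi⟩ := mem_zpowers_iff.1 b.2
      have h3 : Commute (a : Spor.Co1) xx := mem_centralizer_singleton_iff.1 (LThreeCo1T8.Main.AA_le a.2)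
      show Commute (a : Spor.Co1) (b : Spor.Co1)
      rw [← hi]
      exact h3.zpow_right i)
    have h3 : g ∈ f.range := by
      rw [MonoidHom.noncommCoprod_range, Subgroup.range_subtype, Subgroup.range_subtype]; exact h2
    obtain ⟨⟨a, b⟩, rfl⟩ := h3
    exact ⟨a, a.2, b, b.2, rfl⟩
  have hvA : v ∈ AA := by
    obtain ⟨a, ha, b, hb, hab⟩ := hdec v hvx
    have hcab : Commute a b := by
      obtain ⟨i, hi⟩ := mem_zpowers_iff.1 hb
      have h3 : Commute a xx := mem_centralizer_singleton_iff.1 (LThreeCo1T8.Main.AA_le ha)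
      rw [← hi]
      exact h3.zpow_right i
    have h2 : a ^ 2 * b ^ 2 = 1 := by rw [← hcab.mul_pow, ← hab, ← hv2, pow_orderOf_eq_one]
    have h3 : b ^ 2 ∈ AA ⊓ zpowers xx := by
      refine ⟨?_, pow_mem hb 2⟩
      rw [eq_inv_of_mul_eq_one_right h2]
      show (a ^ 2)⁻¹ ∈ AA
      exact AA.inv_mem (AA.pow_mem ha 2)
    rw [LThreeCo1T8.Main.inf_eq, mem_bot] at h3
    have h4 : b ^ 3 = 1 := by
      obtain ⟨i, hi⟩ := mem_zpowers_iff.1 hb
      rw [← hi, ← zpow_natCast, ← zpow_mul, mul_comm, zpow_mul, zpow_natCast, LThreeCo1T8.Main.x_pow, one_zpow]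
    have h5 : b = 1 := by
      rw [pow_succ, h3, one_mul] at h4; exact h4
    rw [hab, h5, mul_one]; exact ha
  -- `C(t xx) ≤ C(v) ⊓ C(xx)`
  have ho : ∀ g : Spor.Co1, Commute g (t * xx) → Commute g v ∧ Commute g xx := by
    intro g hg
    have h3 : xx ^ 3 = 1 := LThreeCo1T8.Main.x_pow
    obtain ⟨e, he⟩ : ∃ e : ℕ, 2 ^ (m + 1) ∣ e ∧ e % 3 = 1 := by
      refine ⟨2 ^ (2 * (m + 1)), pow_dvd_pow 2 (by omega), ?_⟩
      rw [pow_mul, Nat.pow_mod]; norm_num
    have h4 : (t * xx) ^ e = xx := by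
      rw [hc.mul_pow, orderOf_dvd_iff_pow_eq_one.1 (by rw [hm]; exact he.1), one_mul,
        ← Nat.div_add_mod e 3, he.2, pow_succ, pow_mul, h3, one_pow, one_mul]
    have h5 : Commute g xx := by rw [← h4]; exact hg.pow_right e
    have h6 : Commute g t := by
      have h7 : Commute g (t * xx * xx⁻¹) := hg.mul_right h5.inv_right
      rwa [mul_inv_cancel_right] at h7
    exact ⟨h6.pow_right _, h5⟩
  -- the bound
  obtain ⟨eA⟩ := LThreeCo1T8.Main.nonempty_equiv
  let D : Subgroup Spor.Co1 := AA ⊓ centralizer {v}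
  have hD : Nat.card D ≤ 960 := by
    have hw : orderOf (eA ⟨v, hvA⟩) = 2 := by
      rw [MulEquiv.orderOf_eq, ← Subgroup.orderOf_coe, hv2]
    refine le_trans ?_ (card_alt hw)
    let f : D → centralizer ({eA ⟨v, hvA⟩} : Set (alternatingGroup (Fin 9))) := fun g =>
      ⟨eA ⟨g, g.2.1⟩, by
        rw [mem_centralizer_singleton_iff, ← map_mul, ← map_mul]
        congr 1
        exact Subtype.ext (mem_centralizer_singleton_iff.1 g.2.2)⟩
    refine Nat.card_le_card_of_injective f fun a b hab => ?_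
    have h2 := eA.injective (Subtype.ext_iff.1 hab)
    exact Subtype.ext (congrArg (fun y : AA => (y : Spor.Co1)) h2)
  have h3 : Nat.card (zpowers xx) = 3 := by rw [Nat.card_zpowers, order_x]
  let φ : D × zpowers xx → Spor.Co1 := fun p => (p.1 : Spor.Co1) * (p.2 : Spor.Co1)
  have hsub : (centralizer ({t * xx} : Set Spor.Co1) : Set Spor.Co1) ⊆ Set.range φ := by
    intro g hg
    obtain ⟨h4, h5⟩ := ho g (mem_centralizer_singleton_iff.1 hg)
    obtain ⟨a, ha, b, hb, hab⟩ := hdec g h5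
    have hbv : Commute b v := by
      obtain ⟨i, hi⟩ := mem_zpowers_iff.1 hb
      rw [← hi]
      exact (hvx.symm).zpow_left i
    have hav : Commute a v := by
      have h6 : a = g * b⁻¹ := by rw [hab, mul_inv_cancel_right]
      rw [h6]
      exact h4.mul_left hbv.inv_left
    exact ⟨(⟨a, ha, mem_centralizer_singleton_iff.2 hav⟩, ⟨b, hb⟩), hab.symm⟩
  calc Nat.card (centralizer ({t * xx} : Set Spor.Co1)) = (centralizer ({t * xx} : Set Spor.Co1) : Set Spor.Co1).ncard := rfl
    _ ≤ (Set.range φ).ncard := Set.ncard_le_ncard hsub (Set.toFinite _)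
    _ ≤ Nat.card (D × zpowers xx) := by
      rw [← Set.image_univ]
      refine le_trans (Set.ncard_image_le (Set.toFinite _)) ?_
      rw [Set.ncard_univ]
    _ = Nat.card D * 3 := by rw [Nat.card_prod, h3]
    _ ≤ 960 * 3 := Nat.mul_le_mul_right _ hD
    _ = 2880 := by norm_num

/-- **`s` of class `3D`, `t ≠ 1` a 2-element commuting with `s`: `|C(t s)| ≤ 2880`** -/
theorem card_le {s t : Spor.Co1} (hs : orderOf s = 3) (hf : fr s = 2 ^ 8) {k : ℕ} (ht : t ^ 2 ^ k = 1) (h1 : t ≠ 1)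
    (hc : Commute t s) : Nat.card (centralizer ({t * s} : Set Spor.Co1)) ≤ 2880 := by
  have hfin : Finite Spor.Co1 := LThreeCo1T8.Main.finCo1
  obtain ⟨g, hg⟩ := LThreeCo1.Ranks.eight s xx hs order_x hf LThreeMB.CEight.fr_xx
  have h2 : Nat.card (centralizer ({(g * t * g⁻¹) * xx} : Set Spor.Co1)) ≤ 2880 := by
    refine card_xx (k := k) ?_ ?_ ?_
    · rw [conj_pow, ht, mul_one, mul_inv_cancel]
    · intro h; apply h1
      calc t = g⁻¹ * (g * t * g⁻¹) * g := by group
        _ = 1 := by rw [h]; group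
    · rw [← hg]
      show g * t * g⁻¹ * (g * s * g⁻¹) = g * s * g⁻¹ * (g * t * g⁻¹)
      calc g * t * g⁻¹ * (g * s * g⁻¹) = g * (t * s) * g⁻¹ := by group
        _ = g * (s * t) * g⁻¹ := by rw [hc.eq]
        _ = g * s * g⁻¹ * (g * t * g⁻¹) := by group
  rw [show g * t * g⁻¹ * xx = g * (t * s) * g⁻¹ by rw [← hg]; group] at h2
  refine le_trans ?_ h2
  let f : centralizer ({t * s} : Set Spor.Co1) → centralizer ({g * (t * s) * g⁻¹} : Set Spor.Co1) := fun y =>
    ⟨g * y * g⁻¹, by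
      rw [mem_centralizer_singleton_iff]
      have h3 := mem_centralizer_singleton_iff.1 y.2
      calc g * (y : Spor.Co1) * g⁻¹ * (g * (t * s) * g⁻¹) = g * ((y : Spor.Co1) * (t * s)) * g⁻¹ := by group
        _ = g * ((t * s) * (y : Spor.Co1)) * g⁻¹ := by rw [h3]
        _ = g * (t * s) * g⁻¹ * (g * (y : Spor.Co1) * g⁻¹) := by group⟩
  refine Nat.card_le_card_of_injective f fun a b hab => ?_
  have h3 : g * (a : Spor.Co1) * g⁻¹ = g * (b : Spor.Co1) * g⁻¹ := Subtype.ext_iff.1 hab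
  exact Subtype.ext (mul_left_cancel (mul_right_cancel h3))

end Cfsg.Agent.H518.Ore.CoOneD
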