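import Cfsg.Agent.H518.Ore.FPTools
import Cfsg.Agent.H777.Ore.Base
import Cfsg.Agent.H517.Ore.MAll
import Cfsg.Agent.MonsterU.CoFrameF

/-!
# `2^11:M24 < Co1`: every element is a commutator (helper518, cluster ORE)

* `isC_F` : every element of `F = 2^11:M24` is a commutator of `F`;
* `isC_two` : every 2-element of `Co1` is a commutator;
* `isC_dodecad` : every element commuting with a dodecad involution is a commutator.
-/

set_option autoImplicit false

namespace Cfsg.Agent.H518.Ore.CoOneN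

open Cfsg Subgroup Cfsg.Spor
open Cfsg.Agent.H6.ORE (FP lift_step)
open Cfsg.Agent.H777.Ore (IsC)
open Cfsg.Agent.MonsterU.CoFrameF
open Cfsg.Agent.SporadicA.Co0Mono Cfsg.Agent.SporadicA.Co1Simple
open Cfsg.Agent.CoOneType
open Cfsg.Agent.CoOneType.CoOneE (E pr pr_surjective centralizer_dodecad_le card_E)
open Cfsg.Agent.CoOneType.SignFacts (wt)

theorem finite_Co1 : Finite Spor.Co1 := (Nat.card_pos_iff.1 (by rw [card_Co1]; norm_num)).2

theorem finite_E : Finite E := Nat.finite_of_card_ne_zero (by rw [card_E]; norm_num)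

/-- elements over an element of order 23 of `M24` have no fixed points on `E` -/
theorem fpf {y : F} (hy : orderOf (toM24 y) = 23) {e : Spor.Co1} (he : e ∈ E) (hc : (y : Spor.Co1) * e = e * y) :
    e = 1 := by
  have hfE := finite_E
  have hfG := finite_Co1
  have : Fact (Nat.Prime 23) := ⟨by norm_num⟩
  have hn : ∀ f : F, ∀ k ∈ E, (f : Spor.Co1) * k * (f : Spor.Co1)⁻¹ ∈ E := fun f k hk => conj_mem_E f.2 hk
  -- the action of `F` on `E`
  have hEn : (E.subgroupOf F).Normal := by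
    rw [← ker_toM24]; infer_instance
  let φ : F →* MulAut E :=
    { toFun := fun f => MulEquiv.mk' ⟨fun k => ⟨(f : Spor.Co1) * k * (f : Spor.Co1)⁻¹, hn f k k.2⟩,
          fun k => ⟨(f : Spor.Co1)⁻¹ * k * (f : Spor.Co1), by simpa using hn f⁻¹ k k.2⟩,
          fun k => Subtype.ext (by show (f : Spor.Co1)⁻¹ * ((f : Spor.Co1) * k * (f : Spor.Co1)⁻¹) * f = k; group),
          fun k => Subtype.ext (by show (f : Spor.Co1) * ((f : Spor.Co1)⁻¹ * k * (f : Spor.Co1)) * (f : Spor.Co1)⁻¹ = k; group)⟩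
          (fun a b => Subtype.ext (by
            show (f : Spor.Co1) * (a * b) * (f : Spor.Co1)⁻¹ = (f : Spor.Co1) * a * (f : Spor.Co1)⁻¹ * ((f : Spor.Co1) * b * (f : Spor.Co1)⁻¹)
            group))
      map_one' := by
        ext k
        show ((1 : F) : Spor.Co1) * k * ((1 : F) : Spor.Co1)⁻¹ = k
        rw [Subgroup.coe_one]; group
      map_mul' := fun f g => by
        ext k
        show ((f * g : F) : Spor.Co1) * k * ((f * g : F) : Spor.Co1)⁻¹ = (f : Spor.Co1) * ((g : Spor.Co1) * k * (g : Spor.Co1)⁻¹) * (f : Spor.Co1)⁻¹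
        rw [Subgroup.coe_mul]; group }
  have hφ : ∀ (f : F) (k : E), ((φ f k : E) : Spor.Co1) = (f : Spor.Co1) * k * (f : Spor.Co1)⁻¹ := fun _ _ => rfl
  have hφE : ∀ f : F, toM24 f = 1 → φ f = 1 := by
    intro f hf
    rw [toM24_eq_one_iff] at hf
    ext k
    rw [hφ]
    show (f : Spor.Co1) * k * (f : Spor.Co1)⁻¹ = k
    rw [comm_of_mem_E hf k.2]; group
  -- the kernel on `E`
  have hker : ∀ f : F, φ f = 1 → toM24 f = 1 := by
    have hL : ((φ.ker).map toM24).Normal := (MonoidHom.normal_ker φ).map toM24 toM24_surjective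
    rcases Cfsg.Agent.S0365.result.eq_bot_or_eq_top_of_normal _ hL with h3 | h3
    · intro f hf
      have : toM24 f ∈ φ.ker.map toM24 := ⟨f, hf, rfl⟩
      rwa [h3, Subgroup.mem_bot] at this
    · exfalso
      have h4 : toM24 ⟨x, x_mem_F⟩ ∈ φ.ker.map toM24 := by rw [h3]; trivial
      obtain ⟨f, hf, e⟩ := h4
      have h5 : toM24 (f⁻¹ * ⟨x, x_mem_F⟩) = 1 := by rw [map_mul, map_inv, e, inv_mul_cancel]
      have h6 := hφE _ h5
      rw [map_mul, map_inv, show φ f = 1 from hf, inv_one, one_mul] at h6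
      obtain ⟨k, hk, hk1⟩ := exists_sign_ne
      apply hk1
      apply eq_one_of_comm hk
      have h7 := congrArg (fun ψ : MulAut E => ((ψ ⟨k, hk⟩ : E) : Spor.Co1)) h6
      have h8 : x * k * x⁻¹ = k := h7
      calc x * k = x * k * x⁻¹ * x := by group
        _ = k * x := by rw [h8]
  set ψ : MulAut E := φ y with hψ
  have hψ23 : ψ ^ 23 = 1 := by
    rw [hψ, ← map_pow]
    apply hφE
    rw [map_pow, ← hy, pow_orderOf_eq_one]
  have hp : IsPGroup 23 (Subgroup.zpowers ψ) := by
    rintro ⟨g, n, rfl⟩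
    refine ⟨1, ?_⟩
    apply Subtype.ext
    show (ψ ^ n) ^ 23 ^ 1 = 1
    rw [pow_one, ← zpow_natCast, ← zpow_mul, mul_comm, zpow_mul, zpow_natCast, hψ23, one_zpow]
  have h1 := hp.card_modEq_card_fixedPoints E
  let C : Subgroup E :=
    { carrier := {k | ψ k = k}
      one_mem' := map_one ψ
      mul_mem' := fun {a b} ha hb => by
        show ψ (a * b) = a * b
        rw [map_mul, show ψ a = a from ha, show ψ b = b from hb]
      inv_mem' := fun {a} ha => by
        show ψ a⁻¹ = a⁻¹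
        rw [map_inv, show ψ a = a from ha] }
  have h2 : MulAction.fixedPoints (Subgroup.zpowers ψ) E = (C : Set E) := by
    ext k
    rw [MulAction.mem_fixedPoints]
    constructor
    · intro h
      exact h ⟨ψ, Subgroup.mem_zpowers ψ⟩
    · rintro (h : ψ k = k) ⟨g, n, rfl⟩
      have h5 : ψ ∈ MulAction.stabilizer (MulAut E) k := h
      exact (MulAction.stabilizer (MulAut E) k).zpow_mem h5 n
  rw [h2] at h1
  have h3 : Nat.card C ∣ 2 ^ 11 := by
    have := Subgroup.card_subgroup_dvd_card C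
    rwa [card_E] at this
  have h1' : Nat.card E ≡ Nat.card C [MOD 23] := h1
  rw [card_E] at h1'
  obtain ⟨k, hk, hk2⟩ := (Nat.dvd_prime_pow Nat.prime_two).1 h3
  rw [hk2] at h1'
  have h4 : k = 0 ∨ k = 11 := by
    interval_cases k <;> first | omega | (exfalso; revert h1'; decide)
  rcases h4 with rfl | rfl
  · have h5 : C = ⊥ := Subgroup.eq_bot_of_card_eq C (by rw [hk2, pow_zero])
    have h6 : (⟨e, he⟩ : E) ∈ C := by
      show ψ _ = _
      apply Subtype.ext
      rw [hφ]
      show (y : Spor.Co1) * e * (y : Spor.Co1)⁻¹ = e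
      rw [hc]; group
    rw [h5, Subgroup.mem_bot] at h6
    exact congrArg Subtype.val h6
  · exfalso
    have h5 : C = ⊤ := Subgroup.eq_top_of_card_eq C (by rw [hk2, card_E]; norm_num)
    have h6 : φ y = 1 := by
      ext k
      have h7 : k ∈ C := by rw [h5]; trivial
      exact congrArg Subtype.val (show ψ k = k from h7)
    have h7 := hker y h6
    rw [h7, orderOf_one] at hy
    exact absurd hy (by norm_num)

/-- **Every element of `2^11:M24` is a commutator of it.** -/
theorem isC_F' (g : F) : ∃ a b : F, g = a * b * a⁻¹ * b⁻¹ := by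
  have hfE := finite_E
  have hfG := finite_Co1
  obtain ⟨a, b, hl, c, hc, ho⟩ := H517.Ore.MAll.oreF_M24 (toM24 g)
  obtain ⟨a', rfl⟩ := toM24_surjective a
  obtain ⟨b', rfl⟩ := toM24_surjective b
  have h1 : (closure ({a', b'} : Set F)).map toM24 = closure ({toM24 a', toM24 b'} : Set M24) := by
    rw [MonoidHom.map_closure]
    congr 1
    rw [Set.image_insert_eq, Set.image_singleton]
  rw [← h1] at hc
  obtain ⟨c', hc', rfl⟩ := hc
  have hcomm : ∀ x ∈ toM24.ker, ∀ y ∈ toM24.ker, x * y = y * x := by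
    intro x hx y hy
    rw [MonoidHom.mem_ker, toM24_eq_one_iff] at hx hy
    exact Subtype.ext (comm_of_mem_E hx hy)
  have hfp : FP toM24.ker a' b' := by
    refine FP.of_closure inferInstance hcomm hc' ?_
    intro x hx hxx
    rw [MonoidHom.mem_ker, toM24_eq_one_iff] at hx
    have h2 : c' * x = x * c' := by
      calc c' * x = c' * x * c'⁻¹ * c' := by group
        _ = x * c' := by rw [hxx]
    exact Subtype.ext (fpf ho hx (congrArg Subtype.val h2))
  obtain ⟨p, q, -, -, e⟩ := lift_step toM24 hcomm hfp (c := g) hl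
  exact ⟨p, q, e⟩

theorem isC_F {g : Spor.Co1} (hg : g ∈ F) : IsC g := by
  obtain ⟨a, b, h⟩ := isC_F' ⟨g, hg⟩
  exact ⟨a, b, congrArg Subtype.val h⟩

theorem isC_of_conj_F {g h : Spor.Co1} (hg : h * g * h⁻¹ ∈ F) : IsC g := (isC_F hg).of_conj h

/-- a 2-element lies in a conjugate of `F` -/
theorem exists_conj_F {g : Spor.Co1} (hg : ∃ i : ℕ, g ^ 2 ^ i = 1) : ∃ c : Spor.Co1, c⁻¹ * g * c ∈ F := by
  have hfG := finite_Co1
  have : Fact (Nat.Prime 2) := ⟨Nat.prime_two⟩
  have h1 : IsPGroup 2 (Subgroup.zpowers g) := by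
    rintro ⟨y, hy⟩
    obtain ⟨k, rfl⟩ := hy
    obtain ⟨i, hi⟩ := hg
    refine ⟨i, ?_⟩
    apply Subtype.ext
    rw [Subgroup.coe_pow, Subgroup.coe_one]
    show (g ^ k) ^ 2 ^ i = 1
    rw [← zpow_natCast, ← zpow_mul, mul_comm, zpow_mul, zpow_natCast, hi, one_zpow]
  have h2 : ¬ 2 ∣ Nat.card (Spor.Co1 ⧸ F) := by
    have h3 := index_F
    unfold Subgroup.index at h3
    rw [h3]; norm_num
  obtain ⟨a, ha⟩ := h1.nonempty_fixed_point_of_prime_not_dvd_card (Spor.Co1 ⧸ F) h2
  obtain ⟨c, rfl⟩ := QuotientGroup.mk_surjective a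
  refine ⟨c, ?_⟩
  have h3 := ha ⟨g, Subgroup.mem_zpowers g⟩
  have h4 : (QuotientGroup.mk (g * c) : Spor.Co1 ⧸ F) = QuotientGroup.mk c := h3
  rw [QuotientGroup.eq] at h4
  have h5 := F.inv_mem h4
  simpa [mul_assoc] using h5

/-- **Every 2-element of `Co1` is a commutator.** -/
theorem isC_two {g : Spor.Co1} (hg : ∃ i : ℕ, g ^ 2 ^ i = 1) : IsC g := by
  obtain ⟨c, hc⟩ := exists_conj_F hg
  exact isC_of_conj_F (h := c⁻¹) (by simpa using hc)

/-- **Elements commuting with a dodecad involution are commutators.** -/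
theorem isC_dodecad {d : golayCode} (hd : wt d = 12) {g u : Spor.Co1} (hu : IsConj u (pr (signCo0 d)))
    (hg : g * u = u * g) : IsC g := by
  obtain ⟨h, hh⟩ := isConj_iff.1 hu
  refine isC_of_conj_F (h := h) (centralizer_dodecad_le d hd ?_)
  rw [mem_centralizer_singleton_iff, ← hh]
  calc h * g * h⁻¹ * (h * u * h⁻¹) = h * (g * u) * h⁻¹ := by group
    _ = h * u * h⁻¹ * (h * g * h⁻¹) := by rw [hg]; group

end Cfsg.Agent.H518.Ore.CoOneN
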