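import Cfsg.Agent.H6.ORE.Extra

/-!
# Fixed point freeness of `⟨a, b⟩` from one element (helper518, cluster ORE)

* `FP.of_closure` : some `c ∈ ⟨a, b⟩` has no fixed point on the abelian normal subgroup `A`: `A = [A, ⟨a, b⟩]`;
* `FPz.of_closure` : the same for `Q / ⟨z⟩`.
-/

set_option autoImplicit false

namespace Cfsg.Agent.H518.Ore

open Cfsg.Agent.H6.ORE Subgroup

universe u

variable {H : Type u} [Group H]

/-- **`FP` from one fixed point free element of `⟨a, b⟩`.** -/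
theorem FP.of_closure {A : Subgroup H} (hn : A.Normal) [Finite A] (hA : ∀ x ∈ A, ∀ y ∈ A, x * y = y * x) {a b c : H}
    (hc : c ∈ closure ({a, b} : Set H)) (hfix : ∀ x ∈ A, c * x * c⁻¹ = x → x = 1) : FP A a b := by
  have hm : ∀ g : H, ∀ x ∈ A, g * x * g⁻¹ ∈ A := fun g x hx => hn.conj_mem x hx g
  -- the subgroup of products
  let B : Subgroup H :=
    { carrier := {w | ∃ u ∈ A, ∃ v ∈ A, w = u * (b * u * b⁻¹)⁻¹ * (v * (a * v * a⁻¹)⁻¹)}
      one_mem' := ⟨1, one_mem _, 1, one_mem _, by simp⟩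
      mul_mem' := by
        rintro w w' ⟨u, hu, v, hv, rfl⟩ ⟨u', hu', v', hv', rfl⟩
        refine ⟨u * u', mul_mem hu hu', v * v', mul_mem hv hv', ?_⟩
        let _ : CommGroup A := { (inferInstance : Group A) with mul_comm := fun x y => Subtype.ext (hA x x.2 y y.2) }
        have e1 : b * (u * u') * b⁻¹ = b * u * b⁻¹ * (b * u' * b⁻¹) := by group
        have e2 : a * (v * v') * a⁻¹ = a * v * a⁻¹ * (a * v' * a⁻¹) := by group
        rw [e1, e2]
        have h : ∀ x1 x2 x3 x4 y1 y2 y3 y4 : A, x1 * x2⁻¹ * (x3 * x4⁻¹) * (y1 * y2⁻¹ * (y3 * y4⁻¹)) =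
            x1 * y1 * (x2 * y2)⁻¹ * (x3 * y3 * (x4 * y4)⁻¹) := by
          intro x1 x2 x3 x4 y1 y2 y3 y4
          have : Additive.ofMul (x1 * x2⁻¹ * (x3 * x4⁻¹) * (y1 * y2⁻¹ * (y3 * y4⁻¹))) =
            Additive.ofMul (x1 * y1 * (x2 * y2)⁻¹ * (x3 * y3 * (x4 * y4)⁻¹)) := by
            simp only [ofMul_mul, ofMul_inv]
            abel
          exact this
        have := h ⟨u, hu⟩ ⟨_, hm b u hu⟩ ⟨v, hv⟩ ⟨_, hm a v hv⟩ ⟨u', hu'⟩ ⟨_, hm b u' hu'⟩ ⟨v', hv'⟩ ⟨_, hm a v' hv'⟩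
        exact congrArg Subtype.val this
      inv_mem' := by
        rintro w ⟨u, hu, v, hv, rfl⟩
        refine ⟨u⁻¹, inv_mem hu, v⁻¹, inv_mem hv, ?_⟩
        let _ : CommGroup A := { (inferInstance : Group A) with mul_comm := fun x y => Subtype.ext (hA x x.2 y y.2) }
        have e1 : b * u⁻¹ * b⁻¹ = (b * u * b⁻¹)⁻¹ := by group
        have e2 : a * v⁻¹ * a⁻¹ = (a * v * a⁻¹)⁻¹ := by group
        rw [e1, e2]
        have h : ∀ x1 x2 x3 x4 : A, (x1 * x2⁻¹ * (x3 * x4⁻¹))⁻¹ = x1⁻¹ * (x2⁻¹)⁻¹ * (x3⁻¹ * (x4⁻¹)⁻¹) := by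
          intro x1 x2 x3 x4
          have : Additive.ofMul ((x1 * x2⁻¹ * (x3 * x4⁻¹))⁻¹) =
            Additive.ofMul (x1⁻¹ * (x2⁻¹)⁻¹ * (x3⁻¹ * (x4⁻¹)⁻¹)) := by
            simp only [ofMul_mul, ofMul_inv]
            abel
          exact this
        have := h ⟨u, hu⟩ ⟨_, hm b u hu⟩ ⟨v, hv⟩ ⟨_, hm a v hv⟩
        exact congrArg Subtype.val this }
  have hBA : B ≤ A := by
    rintro w ⟨u, hu, v, hv, rfl⟩
    exact mul_mem (mul_mem hu (inv_mem (hm b u hu))) (mul_mem hv (inv_mem (hm a v hv)))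
  -- elements acting trivially on `A / B`
  have hD : ∀ g ∈ closure ({a, b} : Set H), ∀ w ∈ A, w * (g * w * g⁻¹)⁻¹ ∈ B := by
    intro g hg
    induction hg using closure_induction with
    | mem x hx =>
      intro w hw
      rcases hx with rfl | rfl
      · exact ⟨1, one_mem _, w, hw, by simp⟩
      · exact ⟨w, hw, 1, one_mem _, by simp⟩
    | one => intro w hw; simp
    | mul x y hx hy ihx ihy =>
      intro w hw
      have h1 := ihx w hw
      have h2 := ihy w hw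
      have h3 := ihx _ (hBA h2)
      have e : w * (x * y * w * (x * y)⁻¹)⁻¹ = w * (x * w * x⁻¹)⁻¹ *
          ((w * (y * w * y⁻¹)⁻¹ * (x * (w * (y * w * y⁻¹)⁻¹) * x⁻¹)⁻¹)⁻¹ * (w * (y * w * y⁻¹)⁻¹)) := by group
      rw [e]
      exact mul_mem h1 (mul_mem (inv_mem h3) h2)
    | inv x hx ih =>
      intro w hw
      have h1 := ih _ (hm x⁻¹ w hw)
      have e : w * (x⁻¹ * w * x⁻¹⁻¹)⁻¹ = (x⁻¹ * w * x⁻¹⁻¹ * (x * (x⁻¹ * w * x⁻¹⁻¹) * x⁻¹)⁻¹)⁻¹ := by group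
      rw [e]
      exact inv_mem h1
  -- `c` moves everything
  intro w hw
  have hmem : ∀ x : A, (x : H) * (c * x * c⁻¹)⁻¹ ∈ A := fun x => A.mul_mem x.2 (A.inv_mem (hm c x x.2))
  let f : A → A := fun x => ⟨(x : H) * (c * x * c⁻¹)⁻¹, hmem x⟩
  have hinj : Function.Injective f := by
    intro x y hxy
    have h1 : (x : H) * (c * x * c⁻¹)⁻¹ = y * (c * y * c⁻¹)⁻¹ := congrArg Subtype.val hxy
    have h2 : c * ((y : H)⁻¹ * x) * c⁻¹ = (y : H)⁻¹ * x := by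
      calc c * ((y : H)⁻¹ * x) * c⁻¹ = (c * y * c⁻¹)⁻¹ * (c * x * c⁻¹) := by group
        _ = (y : H)⁻¹ * (y * (c * y * c⁻¹)⁻¹) * (c * x * c⁻¹) := by group
        _ = (y : H)⁻¹ * (x * (c * x * c⁻¹)⁻¹) * (c * x * c⁻¹) := by rw [h1]
        _ = (y : H)⁻¹ * x := by group
    have h3 := hfix _ (A.mul_mem (A.inv_mem y.2) x.2) h2
    exact Subtype.ext (inv_mul_eq_one.1 h3).symm
  obtain ⟨x, hx⟩ := Finite.surjective_of_injective hinj ⟨w, hw⟩
  have hx' : (x : H) * (c * x * c⁻¹)⁻¹ = w := congrArg Subtype.val hx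
  have := hD c hc x x.2
  rw [hx'] at this
  exact this

/-- **`FPz` from one fixed point free element of `⟨a, b⟩`.** -/
theorem FPz.of_closure {Q : Subgroup H} {z : H} (h : ES Q z) [Finite Q] {a b c : H}
    (hc : c ∈ closure ({a, b} : Set H))
    (hfix : ∀ x ∈ Q, (c * x * c⁻¹ = x ∨ c * x * c⁻¹ = x * z) → x = 1 ∨ x = z) : FPz Q z a b := by
  have hn := h.normal
  have hz := h.normal_zpowers
  let π : H →* H ⧸ Subgroup.zpowers z := QuotientGroup.mk' _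
  have hπs : Function.Surjective π := QuotientGroup.mk'_surjective _
  have hπk : ∀ x, π x = 1 ↔ (x = 1 ∨ x = z) := by
    intro x
    rw [← h.mem_zpowers]
    exact QuotientGroup.eq_one_iff x
  have hπz : π z = 1 := (hπk z).2 (Or.inr rfl)
  have hπe : ∀ x y, π x = π y → ∃ ζ : H, (ζ = 1 ∨ ζ = z) ∧ x = y * ζ := by
    intro x y hxy
    refine ⟨y⁻¹ * x, ?_, by group⟩
    rw [← hπk, map_mul, map_inv, hxy, inv_mul_cancel]
  have hAn : (Q.map π).Normal := hn.map π hπs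
  have hAc : ∀ x ∈ Q.map π, ∀ y ∈ Q.map π, x * y = y * x := by
    rintro _ ⟨x, hx, rfl⟩ _ ⟨y, hy, rfl⟩
    rw [← map_mul, ← map_mul]
    rcases h.comm x hx y hy with e | e
    · rw [e]
    · rw [e, map_mul π (y * x) z, hπz, mul_one]
  have hfin : Finite (Q.map π) := by
    have : Finite ((Q : Set H)) := ‹Finite Q›
    exact (Set.Finite.image π (Set.toFinite (Q : Set H))).to_subtype
  have hcπ : π c ∈ closure ({π a, π b} : Set (H ⧸ Subgroup.zpowers z)) := by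
    have h1 : (closure ({a, b} : Set H)).map π = closure ({π a, π b} : Set _) := by
      rw [MonoidHom.map_closure]
      congr 1
      rw [Set.image_insert_eq, Set.image_singleton]
    rw [← h1]
    exact ⟨c, hc, rfl⟩
  have hFP : FP (Q.map π) (π a) (π b) := by
    refine FP.of_closure hAn hAc hcπ ?_
    rintro _ ⟨x, hx, rfl⟩ hxx
    rw [← map_inv, ← map_mul, ← map_mul] at hxx
    obtain ⟨ζ, hζ, e⟩ := hπe _ _ hxx
    rw [hπk]
    apply hfix x hx
    rcases hζ with rfl | rfl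
    · left; rw [e, mul_one]
    · right; exact e
  intro w hw
  obtain ⟨_, ⟨u, hu, rfl⟩, _, ⟨v, hv, rfl⟩, e⟩ := hFP (π w) ⟨w, hw, rfl⟩
  simp only [← map_inv, ← map_mul] at e
  obtain ⟨ζ, hζ, e'⟩ := hπe _ _ e
  exact ⟨u, hu, v, hv, ζ, hζ, e'⟩

end Cfsg.Agent.H518.Ore
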